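import Cfsg.Agent.ThreePrime72.Defs
import Cfsg.Agent.T51.OffMain
import Cfsg.Agent.S2796
import Cfsg.Agent.S0215
import Cfsg.Agent.PF14.Compose
import Cfsg.Agent.LocalEven61.Involves

/-!
# Groups of order prime to three: the strongly closed subgroup
-/

set_option autoImplicit false
set_option linter.style.haveILetI false
set_option linter.unusedSectionVars false

namespace Cfsg.Agent.ThreePrime96

open Subgroup
open Cfsg.Agent.ThreePrime72 (Setup FreeOn SetupStmt)
open Cfsg.Agent.T51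

universe u

/-- A group involved in a group has order dividing its order. -/
theorem card_dvd_of_involves {H G : Type*} [Group H] [Group G] [Finite G]
    (h : Cfsg.Involves H G) : Nat.card H ∣ Nat.card G := by
  obtain ⟨K, R, _, ⟨e⟩⟩ := h
  exact Nat.card_congr e.toEquiv ▸
    (card_quotient_dvd_card (R.subgroupOf K)).trans (card_subgroup_dvd_card K)

variable {G : Type u} [Group G] [Finite G]

/-- A group of order prime to three normalizing a subgroup of exponent two has no offenders on it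
if the normalizer acts irreducibly. -/
theorem freeOn (h3 : ¬ 3 ∣ Nat.card G) {B : Subgroup G} (hel : Cfsg.IsElementaryAbelian 2 B)
    (hB : B ≠ ⊥)
    (irr : ∀ C : Subgroup G, C ≤ B → normalizer (B : Set G) ≤ normalizer (C : Set G) →
      C = ⊥ ∨ C = B) : FreeOn B := by
  haveI : Fact (Nat.Prime 2) := ⟨Nat.prime_two⟩
  letI : CommGroup ↥B :=
    { (inferInstance : Group ↥B) with mul_comm := hel.1.is_comm.comm }
  have hV : ∀ v : ↥B, v * v = 1 := fun v =>
    Subtype.ext ((sq (v : G)).symm.trans (hel.2 v v.2))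
  haveI : Finite (MulAut ↥B) := FacGen.finite_aut
  let q : ↥(normalizer (B : Set G)) →* MulAut ↥B := B.normalizerMonoidHom
  have hqv : ∀ (n : ↥(normalizer (B : Set G))) (v : ↥B),
      ((q n v : ↥B) : G) = (n : G) * (v : G) * (n : G)⁻¹ := fun n v => rfl
  have h3X : ¬ Cfsg.Involves (Equiv.Perm (Fin 3)) ↥q.range := by
    intro h
    have h1 := card_dvd_of_involves h
    rw [Nat.card_eq_fintype_card, Fintype.card_perm, Fintype.card_fin] at h1
    exact h3 (((show 3 ∣ (3 : ℕ).factorial by decide).trans h1).trans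
      ((card_range_dvd q).trans (card_subgroup_dvd_card _)))
  obtain ⟨T, hT, -⟩ := FacGen.exists_syl (P := (⊥ : Subgroup (MulAut ↥B))) IsPGroup.of_bot
    (bot_le : ⊥ ≤ q.range)
  -- the fixed points of `T`
  have hW : QOff.fixSub T ≠ ⊥ := by
    have hB2 : 2 ∣ Nat.card ↥B := by
      obtain ⟨b, hb, hb1⟩ := B.bot_or_exists_ne_one.resolve_left hB
      have ho : orderOf b = 2 := orderOf_eq_prime (hel.2 b hb) hb1
      exact ho ▸ orderOf_dvd_natCard B hb
    obtain ⟨v, hv, hv1⟩ := hT.2.1.exists_fixed_point_of_prime_dvd_card_of_fixed_point ↥B hB2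
      (a := (1 : ↥B)) (fun t => map_one (t : MulAut ↥B))
    intro h
    exact hv1 (mem_bot.1 (h ▸ (show v ∈ QOff.fixSub T from fun a ha => MulAction.mem_fixedPoints.1 hv ⟨a, ha⟩))).symm
  -- it generates an invariant subgroup
  have horb : Off.orb q.range (QOff.fixSub T) = ⊤ := by
    rcases irr ((Off.orb q.range (QOff.fixSub T)).map B.subtype) (map_subtype_le _) (fun n hn => by
      have h1 : ∀ m ∈ normalizer (B : Set G), ∀ x ∈ (Off.orb q.range (QOff.fixSub T)).map B.subtype,
          m * x * m⁻¹ ∈ (Off.orb q.range (QOff.fixSub T)).map B.subtype := by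
        rintro m hm _ ⟨v, hv, rfl⟩
        exact ⟨q ⟨m, hm⟩ v, Off.orb_inv (q ⟨m, hm⟩) (MonoidHom.mem_range.2 ⟨⟨m, hm⟩, rfl⟩) v hv, hqv ⟨m, hm⟩ v⟩
      rw [mem_normalizer_iff]
      intro x
      refine ⟨h1 n hn x, fun hx => ?_⟩
      have h2 := h1 n⁻¹ (inv_mem hn) _ hx
      simpa [mul_assoc] using h2) with h | h
    · exact absurd (le_bot_iff.1 ((Off.le_orb q.range _).trans
        ((map_eq_bot_iff_of_injective _ B.subtype_injective).1 h).le)) hW
    · rw [eq_top_iff]
      intro v _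
      obtain ⟨w, hw, hwv⟩ := h.ge v.2
      rwa [B.subtype_injective hwv] at hw
  have hfree : Off.Free T (⊤ : Subgroup ↥B) :=
    Off.free_top _ ↥B q.range T (QOff.fixSub T) le_rfl hV h3X hT
      (fun t ht w hw => by rwa [hw t ht]) horb
      (Off.free_of_le_fixStab fun t ht v hv => hv t ht)
  -- transfer to an arbitrary group of offenders
  intro E hE hsq hne
  let qE : ↥E →* MulAut ↥B := q.comp (Subgroup.inclusion hE)
  have hker : ∀ e : ↥E, qE e = 1 ↔ (e : G) ∈ centralizer (B : Set G) := by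
    intro e
    rw [mem_centralizer_iff]
    constructor
    · intro h b hb
      have h1 : (e : G) * b * (e : G)⁻¹ = b := by
        have := congrArg (fun f : MulAut ↥B => ((f ⟨b, hb⟩ : ↥B) : G)) h
        exact this
      calc b * (e : G) = (e : G) * b * (e : G)⁻¹ * (e : G) := by rw [h1]
        _ = (e : G) * b := by group
    · intro h
      refine MulEquiv.ext fun v => Subtype.ext ?_
      show (e : G) * (v : G) * (e : G)⁻¹ = (v : G)
      rw [← h v v.2, mul_inv_cancel_right]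
  have hinv : ∀ e' ∈ qE.range, ∀ v : ↥B, e' (e' v) = v := by
    rintro _ ⟨e, rfl⟩ v
    rw [← MulAut.mul_apply, ← map_mul, (hker (e * e)).2 (hsq e e.2), MulAut.one_apply]
  have hp : IsPGroup 2 ↥qE.range := fun e' =>
    ⟨1, Subtype.ext (MulEquiv.ext fun v => by
      rw [pow_one, SubgroupClass.coe_pow, sq, MulAut.mul_apply, hinv _ e'.2 v]
      rfl)⟩
  obtain ⟨x, -, hxE⟩ := hT.exists_conj hp (by rintro _ ⟨e, rfl⟩; exact ⟨_, rfl⟩)
  have hf := hfree.cj x
  rw [map_top_of_surjective _ x.surjective] at hf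
  have h0 := hf qE.range hxE (fun e he w _ => hinv e he w) (fun h => hne fun e he => (hker ⟨e, he⟩).1
    (mem_bot.1 (Off.fixStab_top.le (h ⟨⟨e, he⟩, rfl⟩))))
  rw [Off.fixStab_top, inf_bot_eq, card_bot, one_mul, top_inf_eq, Subgroup.card_top] at h0
  have hfix : Nat.card ↥(QOff.fixSub qE.range) = Nat.card ↥(B ⊓ centralizer (E : Set G)) := by
    refine Nat.card_congr
      { toFun := fun v => ⟨((v : ↥B) : G), (v : ↥B).2, mem_centralizer_iff.2 fun e he => ?_⟩
        invFun := fun b => ⟨⟨(b : G), b.2.1⟩, ?_⟩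
        left_inv := fun _ => rfl
        right_inv := fun _ => rfl }
    · have h1 : (e : G) * ((v : ↥B) : G) * (e : G)⁻¹ = ((v : ↥B) : G) :=
        congrArg Subtype.val (v.2 _ ⟨⟨e, he⟩, rfl⟩)
      calc e * ((v : ↥B) : G) = e * ((v : ↥B) : G) * e⁻¹ * e := by group
        _ = ((v : ↥B) : G) * e := by rw [h1]
    · rintro _ ⟨e, rfl⟩
      refine Subtype.ext ?_
      show (e : G) * (b : G) * (e : G)⁻¹ = (b : G)
      rw [mem_centralizer_iff.1 b.2.2 e e.2, mul_inv_cancel_right]
  have hcE : Nat.card ↥qE.range * Nat.card ↥(E ⊓ centralizer (B : Set G)) = Nat.card ↥E := by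
    have h1 : Nat.card ↥qE.ker = Nat.card ↥(E ⊓ centralizer (B : Set G)) := Nat.card_congr
      { toFun := fun e => ⟨((e : ↥E) : G), (e : ↥E).2, (hker _).1 e.2⟩
        invFun := fun e => ⟨⟨(e : G), e.2.1⟩, (hker _).2 e.2.2⟩
        left_inv := fun _ => rfl
        right_inv := fun _ => rfl }
    rw [← h1, ← index_ker, index_mul_card]
  rw [hfix] at h0
  calc Nat.card ↥E * Nat.card ↥(B ⊓ centralizer (E : Set G))
      = Nat.card ↥(E ⊓ centralizer (B : Set G)) *
          (Nat.card ↥qE.range * Nat.card ↥(B ⊓ centralizer (E : Set G))) := by rw [← hcE]; ring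
    _ < _ := Nat.mul_lt_mul_of_pos_left h0 Nat.card_pos

/-- An invariant subgroup of order four contains an invariant involution. -/
theorem exists_fixed (h3 : ¬ 3 ∣ Nat.card G) {B : Subgroup G} (h4 : Nat.card ↥B = 4) :
    ∃ b ∈ B, b ≠ 1 ∧ ∀ n ∈ normalizer (B : Set G), n * b * n⁻¹ = b := by
  classical
  by_contra! hno
  have key : ∀ b ∈ B, b ≠ 1 → ∃ c ∈ B, c ≠ 1 ∧ c ≠ b ∧ ∃ n ∈ normalizer (B : Set G), n * b * n⁻¹ = c := by
    intro b hb hb1
    obtain ⟨n, hn, hne⟩ := hno b hb hb1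
    exact ⟨_, (mem_normalizer_iff.1 hn b).1 hb, fun h => hb1 (conj_eq_one_iff.1 h), hne, n, hn, rfl⟩
  haveI : Fintype ↥B := Fintype.ofFinite _
  obtain ⟨b, hb, hb1⟩ := B.bot_or_exists_ne_one.resolve_left (fun h => by
    rw [h, card_bot] at h4; omega)
  obtain ⟨c, hc, hc1, hcb, n, hn, hnc⟩ := key b hb hb1
  obtain ⟨d, hd, hd1, hdb, hdc⟩ : ∃ d ∈ B, d ≠ 1 ∧ d ≠ b ∧ d ≠ c := by
    by_contra! hh
    have hle : (Finset.univ : Finset ↥B) ⊆ {1, ⟨b, hb⟩, ⟨c, hc⟩} := fun v _ => by
      simp only [Finset.mem_insert, Finset.mem_singleton]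
      by_cases h1 : (v : G) = 1
      · exact Or.inl (Subtype.ext h1)
      by_cases h2 : (v : G) = b
      · exact Or.inr (Or.inl (Subtype.ext h2))
      exact Or.inr (Or.inr (Subtype.ext (hh v v.2 h1 h2)))
    have h5 := (Finset.card_le_card hle).trans Finset.card_le_three
    rw [Finset.card_univ, ← Nat.card_eq_fintype_card, h4] at h5
    omega
  obtain ⟨e, he, he1, hed, m, hm, hme⟩ := key d hd hd1
  have hall : ∀ v : ↥B, v ≠ 1 → ∃ k ∈ normalizer (B : Set G), k * b * k⁻¹ = (v : G) := by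
    have hcases : ∀ v ∈ B, v = 1 ∨ v = b ∨ v = c ∨ v = d := by
      intro v hv
      by_contra! hh
      have hle : ({1, ⟨b, hb⟩, ⟨c, hc⟩, ⟨d, hd⟩, ⟨v, hv⟩} : Finset ↥B).card ≤ 4 := by
        rw [← h4, Nat.card_eq_fintype_card]
        exact Finset.card_le_univ _
      simp [Finset.card_insert_of_notMem, Subtype.ext_iff, hb1.symm, hc1.symm, hd1.symm,
        hh.1.symm, hcb.symm, hdb.symm, hdc.symm, hh.2.1.symm, hh.2.2.1.symm, hh.2.2.2.symm] at hle
    have hreach : ∃ k ∈ normalizer (B : Set G), k * b * k⁻¹ = d := by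
      rcases hcases e he with h | h | h | h
      · exact absurd h he1
      · refine ⟨m⁻¹, inv_mem hm, ?_⟩
        rw [← h, ← hme]; group
      · refine ⟨m⁻¹ * n, mul_mem (inv_mem hm) hn, ?_⟩
        calc m⁻¹ * n * b * (m⁻¹ * n)⁻¹ = m⁻¹ * (n * b * n⁻¹) * m := by group
          _ = d := by rw [hnc, ← h, ← hme]; group
      · exact absurd h hed
    intro v hv
    rcases hcases v v.2 with h | h | h | h
    · exact absurd (Subtype.ext h) hv
    · exact ⟨1, one_mem _, by rw [one_mul, inv_one, mul_one, h]⟩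
    · exact ⟨n, hn, h ▸ hnc⟩
    · exact h ▸ hreach
  -- the orbit has three elements
  letI : MulAction ↥(normalizer (B : Set G)) ↥B :=
    MulAction.compHom ↥B B.normalizerMonoidHom
  have horb : MulAction.orbit ↥(normalizer (B : Set G)) (⟨b, hb⟩ : ↥B) = {(1 : ↥B)}ᶜ := by
    ext v
    constructor
    · rintro ⟨k, rfl⟩ (h : k • (⟨b, hb⟩ : ↥B) = 1)
      exact hb1 (conj_eq_one_iff.1 (congrArg Subtype.val h))
    · intro hv
      obtain ⟨k, hk, hkv⟩ := hall v hv
      exact ⟨⟨k, hk⟩, Subtype.ext hkv⟩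
  have hcard : Nat.card (MulAction.orbit ↥(normalizer (B : Set G)) (⟨b, hb⟩ : ↥B)) = 3 := by
    rw [horb, Nat.card_coe_set_eq, Set.ncard_compl, Set.ncard_singleton, h4]
  have hdvd : 3 ∣ Nat.card ↥(normalizer (B : Set G)) := by
    rw [← hcard, Nat.card_coe_set_eq, ← MulAction.index_stabilizer]
    exact index_dvd_card _
  exact h3 (hdvd.trans (card_subgroup_dvd_card _))

/-- The sections to which the strong closure theorem is applied are smaller than the group. -/
theorem section_hyp (h : ThreePrime72.Min G) : ∀ (K R : Subgroup G) [(R.subgroupOf K).Normal],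
    centralizer (Cfsg.pCore 2 (↥K ⧸ R.subgroupOf K) : Set (↥K ⧸ R.subgroupOf K)) ≤
        Cfsg.pCore 2 (↥K ⧸ R.subgroupOf K) →
      Cfsg.IsCompositionKGroupWith Cfsg.IsSuzukiOrPSL2OddPowerThree (↥K ⧸ R.subgroupOf K) := by
  intro K R _ hch H _ N _ hsimp hnc
  haveI : IsSimpleGroup G := h.simple
  haveI := hsimp
  have d1 : Nat.card (↥H ⧸ N) ∣ Nat.card (↥K ⧸ R.subgroupOf K) :=
    (card_quotient_dvd_card N).trans (card_subgroup_dvd_card H)
  have d2 : Nat.card (↥K ⧸ R.subgroupOf K) ∣ Nat.card G :=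
    (card_quotient_dvd_card _).trans (card_subgroup_dvd_card K)
  refine Or.inl (h.ind _ (lt_of_le_of_ne (Nat.le_of_dvd Nat.card_pos (d1.trans d2)) fun hEq => ?_)
    ?_ (fun h' => h.three (h'.trans (d1.trans d2))))
  · have hQ : Nat.card (↥K ⧸ R.subgroupOf K) = Nat.card G :=
      Nat.dvd_antisymm d2 (hEq ▸ d1)
    have hK : K = ⊤ := eq_top_of_card_eq K (le_antisymm (card_le_card_group K)
      (hQ ▸ Nat.le_of_dvd Nat.card_pos (card_quotient_dvd_card (R.subgroupOf K))))
    have hR : R.subgroupOf K = ⊥ := by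
      have h1 := card_eq_card_quotient_mul_card_subgroup (R.subgroupOf K)
      rw [hQ, hK, Subgroup.card_top] at h1
      rw [hK]
      exact eq_bot_of_card_eq _ (Nat.eq_of_mul_eq_mul_left Nat.card_pos (h1.symm.trans (mul_one _).symm))
    have hbij : Function.Bijective ((K.subtype).comp (MonoidHom.id ↥K)) :=
      ⟨K.subtype_injective, fun g => ⟨⟨g, hK ▸ mem_top g⟩, rfl⟩⟩
    let e : G ≃* ↥K ⧸ R.subgroupOf K :=
      (MulEquiv.ofBijective _ hbij).symm.trans (QuotientGroup.quotientBot.symm.trans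
        (QuotientGroup.quotientMulEquivOfEq hR.symm))
    haveI : IsSimpleGroup (↥K ⧸ R.subgroupOf K) :=
      haveI : Nontrivial (↥K ⧸ R.subgroupOf K) := e.injective.nontrivial
      IsSimpleGroup.isSimpleGroup_of_surjective e.toMonoidHom e.surjective
    obtain ⟨a, b, hab⟩ := h.nc
    rcases (Cfsg.pCore_normal 2 (↥K ⧸ R.subgroupOf K)).eq_bot_or_eq_top with hb | ht
    · rw [hb] at hch
      have h2 : e a ∈ (⊥ : Subgroup (↥K ⧸ R.subgroupOf K)) :=
        hch (mem_centralizer_iff.2 fun x hx => by rw [mem_bot.1 hx, one_mul, mul_one])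
      rw [mem_bot, MulEquiv.map_eq_one_iff] at h2
      exact hab (by rw [h2, one_mul, mul_one])
    · haveI : Fact (Nat.Prime 2) := ⟨Nat.prime_two⟩
      have hp2 : IsPGroup 2 (↥K ⧸ R.subgroupOf K) := by
        have h1 : IsPGroup 2 ↥(Cfsg.pCore 2 (↥K ⧸ R.subgroupOf K)) := Thompson.isPGroup_pCore
        rw [ht] at h1
        exact h1.of_equiv topEquiv
      haveI := hp2.of_equiv e.symm
      exact hab (IsSimpleGroup.comm_iff_isSolvable.2
        (haveI : Group.IsNilpotent G := (hp2.of_equiv e.symm).isNilpotent; inferInstance) a b)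
  · by_contra! hc
    exact hnc ⟨⟨hc⟩⟩

/-- **Piece Setup.** -/
theorem setup : SetupStmt.{u} := by
  intro G _ _ hmin
  haveI : Fact (Nat.Prime 2) := ⟨Nat.prime_two⟩
  haveI : IsSimpleGroup G := hmin.simple
  obtain ⟨S⟩ := (inferInstance : Nonempty (Sylow 2 G))
  have hS : (S : Subgroup G) ≠ ⊥ := by
    intro hbot
    obtain ⟨a, b, hab⟩ := hmin.nc
    have hodd : Odd (Nat.card G) := by
      rw [Nat.odd_iff, ← Nat.two_dvd_ne_zero]
      intro h2
      have h3 := S.not_dvd_index
      rw [hbot, index_bot] at h3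
      exact h3 h2
    exact hab (IsSimpleGroup.comm_iff_isSolvable.2 (PF14.feitThompson G hodd) a b)
  have hno4 : ¬ Cfsg.Involves (Equiv.Perm (Fin 4)) G := fun h => by
    have h1 := card_dvd_of_involves h
    rw [Nat.card_eq_fintype_card, Fintype.card_perm, Fintype.card_fin] at h1
    exact hmin.three ((show 3 ∣ (4 : ℕ).factorial by decide).trans h1)
  set N := normalizer (Cfsg.thompsonSubgroupOf 2 (S : Subgroup G) : Set G) with hN
  set A₀ := (Subgroup.normalClosure (((Cfsg.omegaOne 2 ((S : Subgroup G) ⊓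
    centralizer ((S : Subgroup G) : Set G))).subgroupOf N : Subgroup ↥N) : Set ↥N)).map N.subtype
    with hA₀
  obtain ⟨-, hel, hsc, hcon⟩ := S2796.result hno4 (section_hyp hmin) S N hN A₀ hA₀
  have hA₀ne : A₀ ≠ ⊥ := by
    obtain ⟨z, hz, hz1⟩ : ∃ z ∈ Cfsg.omegaOne 2 ((S : Subgroup G) ⊓
        centralizer ((S : Subgroup G) : Set G)), z ≠ 1 := by
      haveI : Nontrivial ↥(S : Subgroup G) := (nontrivial_iff_ne_bot _).2 hS
      haveI := S.2.center_nontrivial
      obtain ⟨m, hm, hmc⟩ :=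
        ((S.2.to_subgroup (center ↥(S : Subgroup G))).nontrivial_iff_card).1 inferInstance
      obtain ⟨w, hw⟩ := exists_prime_orderOf_dvd_card' (G := center ↥(S : Subgroup G)) 2
        (by rw [hmc]; exact dvd_pow_self 2 hm.ne')
      have ho : orderOf ((w : ↥(S : Subgroup G)) : G) = 2 := by
        rw [Subgroup.orderOf_coe, Subgroup.orderOf_coe, hw]
      refine ⟨((w : ↥(S : Subgroup G)) : G), Thompson.mem_omegaOne ⟨(w : ↥(S : Subgroup G)).2,
        mem_centralizer_iff.2 fun x hx => congrArg Subtype.val (mem_center_iff.1 w.2 ⟨x, hx⟩)⟩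
        (orderOf_dvd_iff_pow_eq_one.1 (dvd_of_eq ho)), fun h1 => ?_⟩
      rw [h1, orderOf_one] at ho
      omega
    have hzN : z ∈ N := by
      have hzS := (EG.omegaOne_center_le (S : Subgroup G)).1 hz
      exact le_normalizer hzS
    intro h
    exact hz1 (mem_bot.1 (h ▸ (⟨⟨z, hzN⟩, subset_normalClosure hz, rfl⟩ : z ∈ A₀)))
  obtain ⟨B, hBA, hB, hctl, hirr⟩ :=
    (ThreePrime24.control_of S hsc hcon).exists_minimal hA₀ne
  have hBel : Cfsg.IsElementaryAbelian 2 B :=
    ⟨⟨⟨fun x y => Subtype.ext (congrArg (fun w : ↥A₀ => (w : G))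
      (hel.1.is_comm.comm ⟨x, hBA x.2⟩ ⟨y, hBA y.2⟩))⟩⟩, fun a ha => hel.2 a (hBA ha)⟩
  have hfix : ∀ b ∈ B, b ≠ 1 → (∀ n ∈ normalizer (B : Set G), n * b * n⁻¹ = b) →
      False := by
    intro b hb hb1 hbn
    have hBb : zpowers b = B := (hirr (zpowers b) (zpowers_le.2 hb) fun n hn => by
      rw [mem_normalizer_iff]
      have hcomm : Commute n b := mul_inv_eq_iff_eq_mul.1 (hbn n hn)
      intro x
      have hx : ∀ x, x ∈ zpowers b → n * x * n⁻¹ = x := by
        rintro _ ⟨k, rfl⟩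
        exact mul_inv_eq_iff_eq_mul.2 (hcomm.zpow_right k)
      exact ⟨fun h => by rwa [hx x h], fun h => by
        have h1 := hx _ h
        have : n * x * n⁻¹ = x := mul_left_cancel (mul_right_cancel h1)
        rwa [this] at h⟩).resolve_left fun h => hb1 (zpowers_eq_bot.1 h)
    have ho : orderOf b = 2 := orderOf_eq_prime (hBel.2 b hb) hb1
    obtain ⟨M, hMn, hModd, hM⟩ := S0215.result S b ho (hctl.sc.1 hb) fun g hg => by
      obtain ⟨n, hn, h⟩ := hctl.fus hb hg
      rw [← h, hbn n hn]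
    rcases hMn.eq_bot_or_eq_top with h | h
    · have hc : b ∈ center G := mem_center_iff.2 fun g => by
        have := mem_bot.1 (h ▸ hM g)
        have h1 : b * g * b⁻¹ = g := mul_inv_eq_one.1 this
        exact (mul_inv_eq_iff_eq_mul.1 h1).symm
      obtain ⟨x, y, hxy⟩ := hmin.nc
      rcases (inferInstance : (center G).Normal).eq_bot_or_eq_top with h2 | h2
      · exact hb1 (mem_bot.1 (h2 ▸ hc))
      · exact hxy (mem_center_iff.1 (h2 ▸ mem_top y) x)
    · rw [h, Subgroup.card_top] at hModd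
      exact (Nat.not_even_iff_odd.2 hModd) (even_iff_two_dvd.2 (ho ▸ orderOf_dvd_natCard b))
  refine ⟨S, B, hctl, hBel, ?_, hirr, freeOn hmin.three hBel hB hirr⟩
  -- the order is at least eight
  obtain ⟨k, hk⟩ := (IsPGroup.iff_card (p := 2)).1
    ((S.2.to_le hctl.sc.1) : IsPGroup 2 ↥B)
  rw [hk]
  match k, hk with
  | 0, hk => exact absurd (eq_bot_of_card_eq _ (by simpa using hk)) hB
  | 1, hk =>
    obtain ⟨b, hb, hb1⟩ := B.bot_or_exists_ne_one.resolve_left hB
    refine (hfix b hb hb1 fun n hn => ?_).elim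
    classical
    haveI : Fintype ↥B := Fintype.ofFinite _
    by_contra hne
    have hle : ({(1 : ↥B), (⟨b, hb⟩ : ↥B), (⟨n * b * n⁻¹, (mem_normalizer_iff.1 hn b).1 hb⟩ : ↥B)} : Finset ↥B).card ≤ 2 := by
      rw [show (2 : ℕ) = Nat.card ↥B from hk.symm, Nat.card_eq_fintype_card]
      exact Finset.card_le_univ _
    rw [Finset.card_eq_three.2 ⟨(1 : ↥B), _, _, fun h => hb1 (congrArg Subtype.val h).symm,
      fun h => hb1 (conj_eq_one_iff.1 (congrArg Subtype.val h).symm),
      fun h => hne (congrArg Subtype.val h).symm, rfl⟩] at hle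
    omega
  | 2, hk =>
    obtain ⟨b, hb, hb1, hbn⟩ := exists_fixed hmin.three (hk.trans (by norm_num))
    exact (hfix b hb hb1 hbn).elim
  | (k + 3), _ => calc 8 = 2 ^ 3 := by norm_num
      _ ≤ 2 ^ (k + 3) := Nat.pow_le_pow_right (by norm_num) (by omega)

end Cfsg.Agent.ThreePrime96
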